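import Mathlib
import Groth.Agent.Et18.Deligne

/-!
# The regular site of a small abelian category
-/

universe u

open CategoryTheory Limits Opposite

namespace Groth.Agent.CohDer1.AbYoneda

variable {A : Type u} [SmallCategory A] [Abelian A] [Preregular A]

theorem effectiveEpi {X Y : A} (f : X ⟶ Y) [Epi f] : EffectiveEpi f := by
  haveI := IsRegularEpiCategory.regularEpiOfEpi f
  infer_instance

theorem mem_of_epi {X Y : A} (S : Sieve X) (π : Y ⟶ X) [Epi π] (h : S π) : S ∈ regularTopology A X :=
  regularTopology.mem_sieves_of_hasEffectiveEpi S ⟨Y, π, effectiveEpi π, h⟩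

theorem coherent : Et18.Deligne.Coherent (regularTopology A) (fun _ => True) where
  exists_pullback X Y Z f g _ _ _ := ⟨pullback f g, pullback.fst f g, pullback.snd f g, trivial,
    IsPullback.of_hasPullback f g⟩
  exists_finite X R _ hR := by
    obtain ⟨Y, π, hπ, h⟩ := (regularTopology.mem_sieves_iff_hasEffectiveEpi R).1 hR
    exact ⟨1, fun _ => Y, fun _ => π, fun _ => trivial, fun _ => h,
      mem_of_epi _ π (Sieve.ofArrows_mk (fun _ : Fin 1 => Y) (fun _ => π) 0)⟩
  exists_mem X R hR := ⟨X, 𝟙 X, trivial, by rwa [Sieve.pullback_id]⟩

theorem hasEnoughPoints : GrothendieckTopology.HasEnoughPoints.{u, u, u} (regularTopology A) :=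
  Et18.Deligne.hasEnoughPoints.{u, u} coherent

theorem isSheaf (X : A) : Presheaf.IsSheaf (regularTopology A) (preadditiveYoneda.obj X) := by
  rw [Presheaf.isSheaf_iff_isSheaf_forget (regularTopology A) _ (forget AddCommGrpCat.{u}), isSheaf_iff_isSheaf_of_type]
  exact GrothendieckTopology.Subcanonical.isSheaf_of_isRepresentable (J := regularTopology A) (yoneda.obj X)

variable (A) in
/-- The additive Yoneda embedding into sheaves. -/
noncomputable def emb : A ⥤ Sheaf (regularTopology A) AddCommGrpCat.{u} :=
  ObjectProperty.lift _ preadditiveYoneda isSheaf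

variable (A) in
/-- Sheafification does not change the representables. -/
noncomputable def embIso : preadditiveYoneda ⋙ presheafToSheaf (regularTopology A) AddCommGrpCat.{u} ≅ emb A :=
  (Functor.associator (emb A) (sheafToPresheaf _ _) _) ≪≫
    Functor.isoWhiskerLeft (emb A) (sheafificationNatIso (regularTopology A) AddCommGrpCat.{u}).symm ≪≫
    (emb A).rightUnitor

instance : (emb A).Full := by unfold emb; infer_instance
instance : (emb A).Faithful := by unfold emb; infer_instance

theorem full : (preadditiveYoneda ⋙ presheafToSheaf (regularTopology A) AddCommGrpCat.{u}).Full :=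
  Functor.Full.of_iso (embIso A).symm

theorem faithful : (preadditiveYoneda ⋙ presheafToSheaf (regularTopology A) AddCommGrpCat.{u}).Faithful :=
  Functor.Faithful.of_iso (embIso A).symm

instance : PreservesFiniteLimits (preadditiveYoneda (C := A)) := by
  constructor
  intro J _ _
  exact ⟨fun {K} => preservesLimit_of_evaluation _ _ fun ⟨X⟩ =>
    show PreservesLimit K (preadditiveCoyoneda.obj (op X)) from inferInstance⟩

theorem preservesFiniteLimits :
    PreservesFiniteLimits (preadditiveYoneda ⋙ presheafToSheaf (regularTopology A) AddCommGrpCat.{u}) :=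
  comp_preservesFiniteLimits _ _

theorem preservesFiniteColimits :
    PreservesFiniteColimits (preadditiveYoneda ⋙ presheafToSheaf (regularTopology A) AddCommGrpCat.{u}) := by
  let F := preadditiveYoneda ⋙ presheafToSheaf (regularTopology A) AddCommGrpCat.{u}
  haveI : PreservesFiniteLimits F := preservesFiniteLimits
  haveI : F.Additive := Functor.additive_of_preserves_binary_products F
  haveI : (emb A).PreservesEpimorphisms := ⟨fun {X Y} f hf => by
    haveI : Sheaf.IsLocallySurjective ((emb A).map f) := by
      constructor
      intro U g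
      refine mem_of_epi _ (pullback.fst (g : U ⟶ Y) f) ⟨pullback.snd (g : U ⟶ Y) f, ?_⟩
      exact pullback.condition.symm
    exact Sheaf.epi_of_isLocallySurjective _⟩
  haveI : F.PreservesEpimorphisms := Functor.PreservesEpimorphisms.of_iso (embIso A).symm
  haveI : F.PreservesHomology := Functor.preservesHomology_of_preservesEpis_and_kernels F
  exact F.preservesFiniteColimits_of_preservesHomology

end Groth.Agent.CohDer1.AbYoneda
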